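import Cfsg.Agent.KFacts.FiTF.FixMask
import Cfsg.Agent.LThreeFi24N.Abs
import Cfsg.Agent.LThreeFi24.FiveConj
import Cfsg.Agent.LThreeFi24.Red24
import Cfsg.Agent.LThreeFi23.CentUuComp
import Cfsg.Agent.LThreeFi23.TwoCl
import Cfsg.Agent.LThreeFi23.Main
import Cfsg.Agent.CpAut.Base
import Cfsg.Agent.KFacts.FiTTh.Has
import Cfsg.Agent.BpSpor.NoComp
import Cfsg.Agent.LThreeFi24N.Final

-- merged: Cfsg.Agent.LThreeFi24N.CoreData
section

/-!
# The transpositions commuting with `j g`, `l` and with `a, b, c, d, e, h, i` (kernel check, helper48)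
-/

set_option autoImplicit false
set_option maxRecDepth 100000
set_option Elab.async false

namespace Cfsg.Agent.LThreeFi24N

open Cfsg Cfsg.Agent.Lib.PermNet Cfsg.Agent.Lib.PermNetPt Cfsg.Agent.Fischer.Fi24RepDef Cfsg.Agent.Fischer.Fi24Rep
open Cfsg.Agent.Fischer.Fi24RepOrb (UG)
open Cfsg.Agent.KFacts.FiTF.FixMask
open Cfsg.Spor.Fi24 (Gen)

theorem sieve_x1 : seqB (sv (nw [.l] false) bl UG) (fun A => seqB (sv (nw [.a] false) bl A)
    (fun A => seqB (sv (nw [.b] false) bl A) (fun A => seqB (sv (nw [.c] false) bl A)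
    (fun A => seqB (sv (nw [.d] false) bl A) (fun A => seqB (sv (nw [.e] false) bl A)
    (fun A => seqB (sv (nw [.h] false) bl A) (fun A => seqB (sv (nw [.i] false) bl A)
        (fun A => Nat.beq (sv (nw [.j, .g] false) bl A) (msk [0]))))))))) = true := by
  decide +kernel

end Cfsg.Agent.LThreeFi24N

end

-- merged: Cfsg.Agent.LThreeFi24N.Core
section

/-!
# `O_{3'}(C(x1)) = 1` in `Fi24` for the product `x1` of two noncommuting transpositions (helper48)
-/

set_option autoImplicit false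
set_option maxRecDepth 100000
set_option linter.constructorNameAsVariable false

namespace Cfsg.Agent.LThreeFi24N

open Subgroup Cfsg Cfsg.Agent.SignalizersComponents Cfsg.Agent.LThreeFi24.Comp
open Cfsg.Agent.R08.FiTwentyFour (L facts)
open Cfsg.Spor (Fi24 Fi23)
open Cfsg.Spor.Fi24 (Gen)
open Cfsg.Agent.Fischer.Fi24Final (sgn)
open Cfsg.Agent.Fischer.Fi24RepDef Cfsg.Agent.Fischer.Fi24Rep
open Cfsg.Agent.Fischer.Fi24RepOrb (UG)
open Cfsg.Agent.Fischer.Fi24Spider (word_append word_cons word_nil)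
open Cfsg.Agent.KFacts.FiTF.Pts Cfsg.Agent.KFacts.FiTF.FixMask
open Cfsg.Agent.LThreeFi24.SNine Cfsg.Agent.LThreeFi24.SNineK
open Cfsg.Agent.Lib.PermNet Cfsg.Agent.Lib.PermNetPt

section

variable {X : Type*} [Group X] {D : Set X}

/-- a normal `3'`-subgroup moves a transposition inside the transpositions commuting with the same ones -/
theorem comm_core (h : TSet D) {O : Subgroup X} [O.Normal] (hO : (Nat.card ↥O).Coprime 3) {d e u : X} (hd : d ∈ D)
    (he : e ∈ D) (hu : u ∈ O) (hde : Commute e d) : Commute e (u * d * u⁻¹) := by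
  by_contra hn
  have hf : u * d * u⁻¹ ∈ D := h.cj d hd u
  have hbr : e * (u * d * u⁻¹) * e = (u * d * u⁻¹) * e * (u * d * u⁻¹) := (h.tri e he _ hf).resolve_left hn
  have he2 := h.sq e he
  have hf2 := h.sq _ hf
  have hd2 := h.sq d hd
  set f := u * d * u⁻¹ with hfdef
  have hw3 : (e * f) ^ 3 = 1 := by
    calc (e * f) ^ 3 = (e * f * e) * (f * e * f) := by simp only [pow_succ, pow_zero, one_mul, mul_assoc]
      _ = (e * f * e) * (e * f * e) := by rw [hbr]
      _ = e * f * (e * e) * f * e := by simp only [mul_assoc]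
      _ = e * (f * f) * e := by rw [he2, mul_one]; simp only [mul_assoc]
      _ = 1 := by rw [hf2, mul_one, he2]
  have hπu : QuotientGroup.mk' O u = 1 := (QuotientGroup.eq_one_iff u).2 hu
  have hπ : QuotientGroup.mk' O (e * f) = QuotientGroup.mk' O (e * d) := by
    rw [hfdef, map_mul, map_mul, map_mul, map_inv, hπu, map_mul]
    simp
  have hed2 : (e * d) ^ 2 = 1 := by
    calc (e * d) ^ 2 = e * (d * e) * d := by rw [pow_two]; group
      _ = e * (e * d) * d := by rw [hde.eq]
      _ = (e * e) * (d * d) := by group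
      _ = 1 := by rw [he2, hd2, one_mul]
  have hwO : e * f ∈ O := by
    rw [← QuotientGroup.eq_one_iff]
    change QuotientGroup.mk' O (e * f) = 1
    have h1 : (QuotientGroup.mk' O (e * f)) ^ 2 = 1 := by rw [hπ, ← map_pow, hed2, map_one]
    have h2 : (QuotientGroup.mk' O (e * f)) ^ 3 = 1 := by rw [← map_pow, hw3, map_one]
    rw [pow_succ, h1, one_mul] at h2
    exact h2
  have hw : e * f = 1 := by
    have h1 : (⟨e * f, hwO⟩ : ↥O) ^ 3 = 1 := Subtype.ext hw3
    have h2 : orderOf (⟨e * f, hwO⟩ : ↥O) = 1 :=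
      Nat.eq_one_of_dvd_coprimes hO (orderOf_dvd_natCard _) (orderOf_dvd_of_pow_eq_one h1)
    exact congrArg Subtype.val (orderOf_eq_one_iff.1 h2)
  apply hn
  have h1 : f = e := by
    calc f = (e * e) * f := by rw [he2, one_mul]
      _ = e * (e * f) := mul_assoc _ _ _
      _ = e := by rw [hw, mul_one]
  rw [h1]

end

/-! ### `Fi23` -/

/-- `O_{3'}(C(uu)) = 1` -/
theorem core_uu : pPrimeCore 3 ↥(centralizer ({LThreeFi23.uu} : Set Fi23)) = ⊥ := by
  have : Fact (Nat.Prime 3) := ⟨Nat.prime_three⟩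
  have hN := Lib.Cores.pPrimeCore_normal (G := ↥(centralizer ({LThreeFi23.uu} : Set Fi23))) 3
  have hco := Lib.Cores.pPrimeCore_coprime (G := ↥(centralizer ({LThreeFi23.uu} : Set Fi23))) 3
  set O := pPrimeCore 3 ↥(centralizer ({LThreeFi23.uu} : Set Fi23)) with hOdef
  -- `O ∩ CC = 1`
  have h1 : O ⊓ LThreeFi23.CU = ⊥ := by
    have hs : IsSimpleGroup ↥LThreeFi23.CU := by
      have := LThreeFi23.simple_CC
      exact (subgroupOfEquivOfLe LThreeFi23.CC_le).isSimpleGroup
    have hn : (O.subgroupOf LThreeFi23.CU).Normal := hN.subgroupOf _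
    rcases hn.eq_bot_or_eq_top with h | h
    · rw [subgroupOf_eq_bot] at h
      exact h.eq_bot
    · exfalso
      rw [subgroupOf_eq_top] at h
      have h2 : Nat.card ↥LThreeFi23.CU = 4585351680 := by
        rw [← LThreeFi23.card_CC]
        exact Nat.card_congr (subgroupOfEquivOfLe LThreeFi23.CC_le).toEquiv
      have h3 : 3 ∣ Nat.card ↥O := by
        refine dvd_trans ?_ (card_dvd_of_le h)
        rw [h2]
        norm_num
      exact (Nat.Prime.coprime_iff_not_dvd Nat.prime_three).1 hco.symm h3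
  -- `|O|` divides 3
  rw [eq_bot_iff]
  intro w hw
  obtain ⟨i, c, hc, hwc⟩ := LThreeFi23.exists_form w.2
  have hcomm : Commute (LThreeFi23.uu ^ i) c :=
    (show Commute LThreeFi23.uu c from (mem_centralizer_singleton_iff.1 (LThreeFi23.CC_le hc)).symm).pow_left i
  have h3 : (w : Fi23) ^ 3 = c ^ 3 := by
    rw [hwc, hcomm.mul_pow, ← pow_mul, mul_comm i 3, pow_mul, LThreeFi23.uu_pow, one_pow, one_mul]
  have h4 : w ^ 3 ∈ O ⊓ LThreeFi23.CU := by
    refine ⟨pow_mem hw 3, ?_⟩
    change ((w ^ 3 : ↥(centralizer ({LThreeFi23.uu} : Set Fi23))) : Fi23) ∈ LThreeFi23.CC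
    rw [Subgroup.coe_pow, h3]
    exact pow_mem hc 3
  rw [h1, mem_bot] at h4
  have h5 : (⟨w, hw⟩ : ↥O) ^ 3 = 1 := Subtype.ext h4
  have h6 : orderOf (⟨w, hw⟩ : ↥O) = 1 :=
    Nat.eq_one_of_dvd_coprimes hco (orderOf_dvd_natCard _) (orderOf_dvd_of_pow_eq_one h5)
  exact mem_bot.2 (congrArg Subtype.val (orderOf_eq_one_iff.1 h6))

/-- the `3'`-core does not depend on the element of the class -/
theorem core_conj {G : Type*} [Group G] [Finite G] {x y : G} (h : IsConj x y)
    (hc : pPrimeCore 3 ↥(centralizer ({x} : Set G)) = ⊥) : pPrimeCore 3 ↥(centralizer ({y} : Set G)) = ⊥ := by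
  obtain ⟨g, rfl⟩ := isConj_iff.1 h
  rw [← Lib.Cores.map_equiv_pPrimeCore (LThreeFi23.centConj g x) 3, hc, Subgroup.map_bot]

/-! ### `Fi24` -/

theorem one_letter (x : Gen) : word [x] = gen x := by rw [word_cons, word_nil, mul_one]

theorem x1_eq : x1 = gen .j * gen .g := by
  have h0 : s 0 = gen .j := one_letter _
  have h1 : s 1 = gen .g := one_letter _
  unfold x1
  rw [h0, h1]

theorem x1_word : x1 = word [.j, .g] := by
  rw [x1_eq, word_cons, one_letter]

theorem gmem (x : Gen) : gen x ∈ L := Cfsg.Agent.R08.FiTwentyFour.gen_mem_L x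

/-- the transpositions commuting with `x1`, `l` and `a, b, c, d, e, h, i` -/
theorem eq_l {f : Fi24} (hf : f ∈ L) (hx : f * x1 = x1 * f) (hl : f * gen .l = gen .l * f)
    (hc : ∀ x : Gen, x = .a ∨ x = .b ∨ x = .c ∨ x = .d ∨ x = .e ∨ x = .h ∨ x = .i → f * gen x = gen x * f) :
    f = gen .l := by
  obtain ⟨p, hp⟩ := exists_pt hf
  have h1 := sieve_x1
  simp only [seqB_eq] at h1
  have key : ∀ x : Gen, f * gen x = gen x * f → wperm (nw [x] false) p = p := by
    intro x hx
    have h2 : rho (gen x) p = p := (hp.comm_iff _).1 hx.symm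
    rw [← rho_word, one_letter]
    exact h2
  have keyx : wperm (nw [.j, .g] false) p = p := by
    rw [← rho_word, ← x1_word]
    exact (hp.comm_iff _).1 hx.symm
  have h2 : p ∈ [0] := by
    rw [← testBit_msk, ← Nat.eq_of_beq_eq_true h1]
    exact sv_spec (wok _ _) bl (sv_spec (wok _ _) bl (sv_spec (wok _ _) bl (sv_spec (wok _ _) bl
      (sv_spec (wok _ _) bl (sv_spec (wok _ _) bl (sv_spec (wok _ _) bl (sv_spec (wok _ _) bl (sv_spec (wok _ _) bl
        (bit hp) (key _ hl)) (key _ (hc _ (by simp)))) (key _ (hc _ (by simp)))) (key _ (hc _ (by simp))))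
        (key _ (hc _ (by simp)))) (key _ (hc _ (by simp)))) (key _ (hc _ (by simp)))) (key _ (hc _ (by simp)))) keyx
  rw [List.mem_singleton] at h2
  subst h2
  exact hp.inj (isPt_gen .l)

/-- the letters commuting with `j g` and `l` -/
theorem letters_x1 {x : Gen} (hx : x = .a ∨ x = .b ∨ x = .c ∨ x = .d ∨ x = .e ∨ x = .h ∨ x = .i ∨ x = .l) :
    gen x * x1 = x1 * gen x ∧ gen x * gen .l = gen .l * gen x := by
  have c : ∀ y : Gen, (y = .j ∨ y = .g ∨ y = .l) → gen x * gen y = gen y * gen x := by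
    intro y hy
    by_cases hxy : x = y
    · rw [hxy]
    · exact Cfsg.Agent.Fischer.Fi24Class.gen_comm x y (by
        revert hxy
        rcases hx with rfl | rfl | rfl | rfl | rfl | rfl | rfl | rfl <;> rcases hy with rfl | rfl | rfl <;> decide)
  refine ⟨?_, c _ (by simp)⟩
  rw [x1_eq]
  exact ((show Commute (gen x) (gen .j) from c _ (by simp)).mul_right (show Commute (gen x) (gen .g) from
    c _ (by simp))).eq

/-- the product of `j` and `g` in `Fi23` -/
def k0 : Fi23 := LThreeFi23.el .j * LThreeFi23.el .g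

theorem phi_k0 : facts.phi k0 = x1 := by
  unfold k0
  rw [map_mul, x1_eq]
  have h1 : facts.phi (LThreeFi23.el .j) = gen .j * gen .l := facts.phi_gen .j
  have h2 : facts.phi (LThreeFi23.el .g) = gen .g * gen .l := facts.phi_gen .g
  rw [h1, h2]
  exact Cfsg.Agent.Fischer.Fi24Class.img_mul .j .g

theorem conj_k0 : IsConj LThreeFi23.uu k0 := by
  have h := LThreeFi23.isConj_of_pair (p := LThreeFi23.pt .j) (q := LThreeFi23.pt .g) (by decide) (by decide)
    (LThreeFi23.ncom_pt (x := .j) rfl (by decide +kernel))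
  rw [LThreeFi23.T_pt, LThreeFi23.T_pt] at h
  exact h.symm

theorem core_k0 : pPrimeCore 3 ↥(centralizer ({k0} : Set Fi23)) = ⊥ := by
  exact core_conj conj_k0 core_uu

theorem order_k0 : orderOf k0 = 3 := by
  obtain ⟨g, hg⟩ := isConj_iff.1 conj_k0
  rw [← hg, ← LThreeFi23.order_uu]
  exact MulEquiv.orderOf_eq (MulAut.conj g) LThreeFi23.uu

theorem order_x1 : orderOf x1 = 3 := by
  rw [← phi_k0, orderOf_injective facts.phi facts.phi_injective, order_k0]

/-- `C_{Fi23}(j g) → C_{Fi24}(x1)` -/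
noncomputable def psi : ↥(centralizer ({k0} : Set Fi23)) →* ↥(centralizer ({x1} : Set Fi24)) where
  toFun m := ⟨facts.phi (m : Fi23), by
    rw [mem_centralizer_singleton_iff, ← phi_k0, ← map_mul, mem_centralizer_singleton_iff.1 m.2, map_mul]⟩
  map_one' := Subtype.ext (map_one _)
  map_mul' a b := Subtype.ext (map_mul _ _ _)

theorem psi_coe (m : ↥(centralizer ({k0} : Set Fi23))) : (psi m : Fi24) = facts.phi (m : Fi23) := rfl

theorem psi_inj : Function.Injective psi := by
  intro a b hab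
  have h1 : facts.phi (a : Fi23) = facts.phi (b : Fi23) := congrArg Subtype.val hab
  exact Subtype.ext (facts.phi_injective h1)

/-- the elements of `C(x1) ∩ C(l)` of sign 1 -/
theorem exists_psi {v : Fi24} (hx : v * x1 = x1 * v) (hl : v * gen .l = gen .l * v) (hs : sgn v = 1) :
    ∃ m : ↥(centralizer ({k0} : Set Fi23)), facts.phi (m : Fi23) = v := by
  obtain ⟨m, hm⟩ := (facts.mem_range_iff v).2 ⟨hl, hs⟩
  refine ⟨⟨m, ?_⟩, hm⟩
  rw [mem_centralizer_singleton_iff]
  apply facts.phi_injective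
  rw [map_mul, map_mul, phi_k0, hm]
  exact hx

/-- a normal `3'`-subgroup of `C(jg)` in `Fi23` is trivial -/
theorem normal_k0 {N : Subgroup ↥(centralizer ({k0} : Set Fi23))} (hN : N.Normal) (hc : (Nat.card ↥N).Coprime 3)
    {m : ↥(centralizer ({k0} : Set Fi23))} (hm : m ∈ N) : m = 1 := by
  have h := Lib.Cores.le_pPrimeCore hN hc hm
  rw [core_k0, mem_bot] at h
  exact h

/-- **`O_{3'}(C(x1)) = 1`** -/
theorem core_x1 : pPrimeCore 3 ↥(centralizer ({x1} : Set Fi24)) = ⊥ := by
  have hfin := Cfsg.Agent.R08.FiTwentyFour.finite_Fi24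
  have hN := Lib.Cores.pPrimeCore_normal (G := ↥(centralizer ({x1} : Set Fi24))) 3
  have hco := Lib.Cores.pPrimeCore_coprime (G := ↥(centralizer ({x1} : Set Fi24))) 3
  set O := pPrimeCore 3 ↥(centralizer ({x1} : Set Fi24)) with hO
  have hT := Cfsg.Agent.LThreeFi24.Red24.tset (centralizer ({x1} : Set Fi24))
  have hl := letters_x1 (x := .l) (by simp)
  have hl2 : gen .l * gen .l = 1 := Cfsg.Agent.R08.FiTwentyFour.sq (gmem .l)
  -- `O` commutes with `l`
  have step1 : ∀ u ∈ O, (u : Fi24) * gen .l = gen .l * u := by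
    intro u hu
    have key : ∀ x : Gen, (x = .a ∨ x = .b ∨ x = .c ∨ x = .d ∨ x = .e ∨ x = .h ∨ x = .i ∨ x = .l) →
        gen x * ((u : Fi24) * gen .l * (u : Fi24)⁻¹) = ((u : Fi24) * gen .l * (u : Fi24)⁻¹) * gen x := by
      intro x hx
      have h1 := letters_x1 hx
      have h2 := comm_core hT hco
        (d := ⟨gen .l, mem_centralizer_singleton_iff.2 hl.1⟩) (e := ⟨gen x, mem_centralizer_singleton_iff.2 h1.1⟩)
        (gmem .l) (gmem x) hu (Subtype.ext h1.2)
      exact congrArg Subtype.val h2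
    have h3 : (u : Fi24) * gen .l * (u : Fi24)⁻¹ = gen .l := by
      apply eq_l (Cfsg.Agent.R08.FiTwentyFour.conj (gmem .l) (u : Fi24))
      · have c1 : Commute (u : Fi24) x1 := mem_centralizer_singleton_iff.1 u.2
        have c2 : Commute (gen .l) x1 := hl.1
        exact ((c1.mul_left c2).mul_left c1.inv_left).eq
      · exact (key .l (by simp)).symm
      · intro x hx
        refine (key x ?_).symm
        rcases hx with h | h | h | h | h | h | h <;> simp [h]
    exact mul_inv_eq_iff_eq_mul.1 h3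
  -- the elements of sign 1
  have step2 : ∀ u ∈ O, sgn (u : Fi24) = 1 → u = 1 := by
    intro u hu hs
    obtain ⟨m, hm⟩ := exists_psi (mem_centralizer_singleton_iff.1 u.2) (step1 u hu) hs
    have hmu : psi m = u := Subtype.ext hm
    have h1 : (O.comap psi).Normal := hN.comap psi
    have h2 : (Nat.card ↥(O.comap psi)).Coprime 3 := by
      refine Nat.Coprime.coprime_dvd_left ?_ hco
      rw [Nat.card_congr ((O.comap psi).equivMapOfInjective psi psi_inj).toEquiv]
      exact card_dvd_of_le (map_comap_le psi O)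
    have h3 : m ∈ O.comap psi := by
      rw [mem_comap, hmu]
      exact hu
    rw [← hmu, normal_k0 h1 h2 h3, map_one]
  rw [eq_bot_iff]
  intro u hu
  rw [mem_bot]
  by_contra hu1
  have hsu : sgn (u : Fi24) = -1 := by
    rcases Int.units_eq_one_or (sgn (u : Fi24)) with h | h
    · exact absurd (step2 u hu h) hu1
    · exact h
  -- `u` is central
  have hcen : ∀ g : ↥(centralizer ({x1} : Set Fi24)), g * u = u * g := by
    intro g
    have h1 : g * u * g⁻¹ * u⁻¹ ∈ O := mul_mem (hN.conj_mem u hu g) (inv_mem hu)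
    have h2 : sgn ((g * u * g⁻¹ * u⁻¹ : ↥(centralizer ({x1} : Set Fi24))) : Fi24) = 1 := by
      change sgn ((g : Fi24) * u * (g : Fi24)⁻¹ * (u : Fi24)⁻¹) = 1
      rw [map_mul, map_mul, map_mul, map_inv, map_inv, mul_comm (sgn (g : Fi24)), mul_inv_cancel_right, mul_inv_cancel]
    have h3 := step2 _ h1 h2
    have h4 : g * u * g⁻¹ = u := mul_inv_eq_one.1 h3
    exact mul_inv_eq_iff_eq_mul.1 h4
  have hu2 : u * u = 1 := by
    apply step2 _ (mul_mem hu hu)
    change sgn ((u : Fi24) * u) = 1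
    rw [map_mul, hsu]
    rfl
  have hcl := step1 u hu
  -- the element `u l`
  have hv1 : ((u : Fi24) * gen .l) * x1 = x1 * ((u : Fi24) * gen .l) := by
    have c1 : Commute (u : Fi24) x1 := mem_centralizer_singleton_iff.1 u.2
    have c2 : Commute (gen .l) x1 := hl.1
    exact (c1.mul_left c2).eq
  have hv2 : ((u : Fi24) * gen .l) * gen .l = gen .l * ((u : Fi24) * gen .l) := by
    rw [← mul_assoc, ← hcl]
  have hv3 : sgn ((u : Fi24) * gen .l) = 1 := by
    rw [map_mul, hsu, show sgn (gen .l) = -1 from Cfsg.Agent.Fischer.Fi24Final.sgn_gen _]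
    rfl
  obtain ⟨m, hm⟩ := exists_psi hv1 hv2 hv3
  have hm2 : m ^ 2 = 1 := by
    apply psi_inj
    apply Subtype.ext
    rw [map_pow, map_one, Subgroup.coe_pow, psi_coe, hm, pow_two, Subgroup.coe_one]
    calc (u : Fi24) * gen .l * ((u : Fi24) * gen .l) = (u : Fi24) * (gen .l * (u : Fi24)) * gen .l := by group
      _ = (u : Fi24) * ((u : Fi24) * gen .l) * gen .l := by rw [hcl]
      _ = ((u : Fi24) * u) * (gen .l * gen .l) := by group
      _ = 1 := by rw [hl2, mul_one]; exact congrArg Subtype.val hu2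
  have hmc : ∀ n : ↥(centralizer ({k0} : Set Fi23)), n * m = m * n := by
    intro n
    apply psi_inj
    apply Subtype.ext
    rw [map_mul, map_mul, Subgroup.coe_mul, Subgroup.coe_mul, psi_coe m, hm]
    have c1 : Commute (psi n : Fi24) (u : Fi24) := congrArg Subtype.val (hcen (psi n))
    have c2 : Commute (psi n : Fi24) (gen .l) := facts.phi_comm _
    exact (c1.mul_right c2).eq
  have hm1 : m = 1 := by
    refine normal_k0 (N := zpowers m) ?_ ?_ (mem_zpowers m)
    · refine ⟨fun n hn g => ?_⟩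
      obtain ⟨k, rfl⟩ := mem_zpowers_iff.1 hn
      have h1 : Commute g m := hmc g
      rw [(h1.zpow_right k).eq, mul_inv_cancel_right]
      exact hn
    · rw [Nat.card_zpowers]
      exact Nat.Coprime.coprime_dvd_left (orderOf_dvd_of_pow_eq_one hm2) (by norm_num)
  have hul : (u : Fi24) = gen .l := by
    rw [hm1] at hm
    have h1 : (1 : Fi24) = (u : Fi24) * gen .l := by rw [← hm]; exact (map_one _).symm
    calc (u : Fi24) = (u : Fi24) * (gen .l * gen .l) := by rw [hl2, mul_one]
      _ = ((u : Fi24) * gen .l) * gen .l := by group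
      _ = gen .l := by rw [← h1, one_mul]
  obtain ⟨b, hb, hbx, hn⟩ := Cfsg.Agent.LThreeFi24.Red24.exists_noncomm order_x1 (gmem .l) hl.1
  apply hn
  have h1 := congrArg Subtype.val (hcen ⟨b, mem_centralizer_singleton_iff.2 hbx⟩)
  have h2 : b * (u : Fi24) = (u : Fi24) * b := h1
  rw [hul] at h2
  exact h2.symm

end Cfsg.Agent.LThreeFi24N

end

-- merged: Cfsg.Agent.LThreeFi23.AutRow
section

/-!
# The row `ThreeRows.fi23` of S1814 (helper48)
-/

set_option autoImplicit false

namespace Cfsg.Agent.LThreeFi23.AutRow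

open Subgroup Cfsg Cfsg.Agent.CpAut Cfsg.Agent.LThreeFi23

theorem not_comm : ¬ IsMulCommutative Spor.Fi23 := by
  intro h
  have hs := nsimple
  let _ : CommGroup Spor.Fi23 := { (inferInstance : Group Spor.Fi23) with
    mul_comm := fun a b => h.is_comm.comm a b }
  have h1 : (Nat.card Spor.Fi23).Prime := IsSimpleGroup.prime_card
  rw [card_G] at h1
  exact absurd h1 (by norm_num)

/-- every automorphism is inner -/
theorem inner (p : ℕ) : AutInner p Spor.Fi23 := fun x _ => KFacts.FiTTh.Has.inn x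

/-- **`AutC 3 Fi23`** -/
theorem three : AutC 3 Spor.Fi23 := by
  have hs := nsimple
  exact autC_of_inner (center_eq_bot_of_simple not_comm) (inner 3) fun _ hg => comps_all hg

end Cfsg.Agent.LThreeFi23.AutRow

end

-- merged: Cfsg.Agent.BpSpor.FiTThThree
section

/-!
# The row `BpS 3 Fi23` of S1332 (helper48)
-/

set_option autoImplicit false

namespace Cfsg.Agent.BpSpor.Fi23

open Subgroup Cfsg Cfsg.Agent.BpTab Cfsg.Agent.BpSpor Cfsg.Agent.CpAut Cfsg.Agent.LThreeFi23 Cfsg.Agent.SignalizersComponents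

/-- the centralizer of an element of order 3 is solvable, or the element is in one of two classes -/
theorem cases {x : Spor.Fi23} (hx : orderOf x = 3) :
    Group.IsSolvable ↥(centralizer ({x} : Set Spor.Fi23)) ∨ IsConj uu x ∨ IsConj xC x := by
  by_cases h : ∃ r : ℕ, r.Prime ∧ 5 ≤ r ∧ r ∣ Nat.card ↥(centralizer ({x} : Set Spor.Fi23))
  · right
    obtain ⟨r, hr, hr5, hd⟩ := h
    have : Fact r.Prime := ⟨hr⟩
    obtain ⟨y, hy⟩ := exists_prime_orderOf_dvd_card' r hd
    have hyr : (y : Spor.Fi23) ^ r = 1 := by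
      rw [← Subgroup.coe_pow, ← hy, pow_orderOf_eq_one]
      rfl
    have hy1 : (y : Spor.Fi23) ≠ 1 := by
      intro h1
      have h2 : y = 1 := Subtype.ext h1
      rw [h2, orderOf_one] at hy
      have := hr.one_lt
      omega
    have hx3 : x ^ 3 = 1 := by rw [← hx, pow_orderOf_eq_one]
    have hx1 : x ≠ 1 := by
      intro h1
      rw [h1, orderOf_one] at hx
      omega
    exact (two_classes hr hr5 hyr hy1 (Tel.of_three hx3) hx1 (mem_centralizer_singleton_iff.1 y.2).symm).imp
      IsConj.symm IsConj.symm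
  · left
    apply LThreeFi24.Comp.solvable_of_primes
    intro r hr hd
    by_contra h2
    have h3 : ¬ 5 ≤ r := fun h3 => h ⟨r, hr, h3, hd⟩
    have h4 := hr.two_le
    have h5 : r = 4 := by omega
    subst h5
    revert hr
    decide

theorem noComp_xC : NoComp 3 ↥(centralizer ({xC} : Set Spor.Fi23)) := by
  have hO := Lib.Cores.pPrimeCore_normal (G := XC) 3
  intro K hK
  have : Fact (Nat.Prime 3) := ⟨Nat.prime_three⟩
  obtain ⟨r, hr, hr5, y, hy, hc⟩ := LThreeFi24.CompB.exists_prime_comm (O := pPrimeCore 3 XC)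
    (Lib.Cores.pPrimeCore_coprime (G := XC) 3) hK NX_pgroup
    (LThreeFi24.CompB.comm_of_normal' hK NX_normal NX_pgroup)
  exact no_prime hr hr5 hy hc

/-- every element of order 3 -/
theorem good {x : Spor.Fi23} (hx : orderOf x = 3) : Good 3 ↥(centralizer ({x} : Set Spor.Fi23)) := by
  have : Fact (Nat.Prime 3) := ⟨Nat.prime_three⟩
  rcases cases hx with h | h | h
  · exact good_of_solvable h
  · obtain ⟨g, rfl⟩ := isConj_iff.1 h
    have hs := simple_CC
    have h1 : Good 3 ↥CU := (good_of_simple simple_CC).congr (subgroupOfEquivOfLe CC_le).symm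
    exact (Good.of_solvable_quotient h1 solvable_quot).congr (centConj g uu)
  · obtain ⟨g, rfl⟩ := isConj_iff.1 h
    exact noComp_xC.good.congr (centConj g xC)

/-- **`BpS 3 Fi23`** -/
theorem bps_three : BpS 3 Spor.Fi23 := by
  have hs := nsimple
  exact bpS_of_inner (center_eq_bot_of_simple AutRow.not_comm) (AutRow.inner 3) fun _ hg => good hg

end Cfsg.Agent.BpSpor.Fi23

end

-- merged: Cfsg.Agent.LThreeFi24N.GoodD
section

/-!
# `Good 3 (C(x))` for the elements `x` of order 3 of `Fi24'` commuting with a transposition (helper48)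
-/

set_option autoImplicit false
set_option maxRecDepth 100000
set_option linter.constructorNameAsVariable false

namespace Cfsg.Agent.LThreeFi24N

open Subgroup Cfsg Cfsg.Agent.SignalizersComponents Cfsg.Agent.LThreeFi24.Comp Cfsg.Agent.BpTab Cfsg.Agent.BpSpor
open Cfsg.Agent.R08.FiTwentyFour (L facts)
open Cfsg.Spor (Fi24 Fi24' Fi23)
open Cfsg.Spor.Fi24 (Gen)
open Cfsg.Agent.Fischer.Fi24Final (sgn)
open Cfsg.Agent.Fischer.Fi24Rep (gen)

/-- an element of order 3 of `Fi23` commuting with no element of order 5 has a solvable centralizer -/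
theorem solvable_of_not_five {k : Fi23} (hk : orderOf k = 3) (h : ∀ m : Fi23, orderOf m = 5 → m * k ≠ k * m) :
    Group.IsSolvable ↥(centralizer ({k} : Set Fi23)) := by
  have key : ∀ {k' m' : Fi23}, IsConj k' k → orderOf m' = 5 → m' * k' = k' * m' → False := by
    intro k' m' hc hm hcm
    obtain ⟨g, rfl⟩ := isConj_iff.1 hc
    refine h (g * m' * g⁻¹) ?_ ?_
    · rw [← hm]
      exact MulEquiv.orderOf_eq (MulAut.conj g) m'
    · calc g * m' * g⁻¹ * (g * k' * g⁻¹) = g * (m' * k') * g⁻¹ := by group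
        _ = g * (k' * m') * g⁻¹ := by rw [hcm]
        _ = g * k' * g⁻¹ * (g * m' * g⁻¹) := by group
  rcases Fi23.cases hk with h1 | h1 | h1
  · exact h1
  · exfalso
    have : Fact (Nat.Prime 5) := ⟨by norm_num⟩
    have hd : 5 ∣ Nat.card ↥LThreeFi23.CC := by rw [LThreeFi23.card_CC]; norm_num
    obtain ⟨y, hy⟩ := exists_prime_orderOf_dvd_card' 5 hd
    exact key h1 (m' := (y : Fi23)) (by rw [← hy, Subgroup.orderOf_coe])
      (mem_centralizer_singleton_iff.1 (LThreeFi23.CC_le y.2))
  · exfalso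
    have : Fact (Nat.Prime 5) := ⟨by norm_num⟩
    refine key h1 (m' := LThreeFi23.elw LThreeFi23.y5) (orderOf_eq_prime LThreeFi23.pow5 ?_) ?_
    · intro h2
      have hya : Cfsg.Agent.Fischer.Fi23Hom.rho (LThreeFi23.elw LThreeFi23.y5) 0 = 8006 :=
        ((LThreeFi23.chain_cons _ _ _ _).1 LThreeFi23.k_y5a).1
      rw [h2, map_one] at hya
      exact absurd hya (by norm_num)
    · exact ((LThreeFi23.u1_y5.mul_left LThreeFi23.u2_y5).symm).eq

/-- `C_F(x) ∩ C_F(d)` is solvable -/
theorem solvable_cd {x d : Fi24} (hx : orderOf x = 3) (hd : d ∈ L) (h : d * x = x * d)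
    (h5 : ∀ y : Fi24, orderOf y = 5 → y * x ≠ x * y) :
    Group.IsSolvable ↥(centralizer ({(⟨d, mem_centralizer_singleton_iff.2 h⟩ : ↥(centralizer ({x} : Set Fi24)))} :
      Set ↥(centralizer ({x} : Set Fi24)))) := by
  obtain ⟨g, hg⟩ := isConj_iff.1 (show IsConj (gen .l) d from hd)
  have hgl : gen .l = g⁻¹ * d * g := by rw [← hg]; group
  have hx' : orderOf (g⁻¹ * x * g) = 3 := by
    rw [← hx]
    have := MulEquiv.orderOf_eq (MulAut.conj g⁻¹) x
    rw [MulAut.conj_apply, inv_inv] at this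
    exact this
  have hl : (g⁻¹ * x * g) * gen .l = gen .l * (g⁻¹ * x * g) := by
    rw [hgl]
    calc g⁻¹ * x * g * (g⁻¹ * d * g) = g⁻¹ * (x * d) * g := by group
      _ = g⁻¹ * (d * x) * g := by rw [h]
      _ = g⁻¹ * d * g * (g⁻¹ * x * g) := by group
  have hsx : sgn (g⁻¹ * x * g) = 1 := by
    have h1 : sgn (g⁻¹ * x * g) ^ 3 = 1 := by rw [← map_pow, ← hx', pow_orderOf_eq_one, map_one]
    rcases Int.units_eq_one_or (sgn (g⁻¹ * x * g)) with h | h
    · exact h
    · rw [h] at h1
      exact absurd h1 (by decide)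
  obtain ⟨k, hk⟩ := (facts.mem_range_iff (g⁻¹ * x * g)).2 ⟨hl, hsx⟩
  have hko : orderOf k = 3 := by rw [← hx', ← hk, orderOf_injective facts.phi facts.phi_injective]
  have hkx : g * facts.phi k * g⁻¹ = x := by rw [hk]; group
  have hsol : Group.IsSolvable ↥(centralizer ({k} : Set Fi23)) := by
    apply solvable_of_not_five hko
    intro m hm hmk
    refine h5 (g * facts.phi m * g⁻¹) ?_ ?_
    · rw [← hm, ← orderOf_injective facts.phi facts.phi_injective m]
      exact MulEquiv.orderOf_eq (MulAut.conj g) (facts.phi m)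
    · rw [← hkx]
      calc g * facts.phi m * g⁻¹ * (g * facts.phi k * g⁻¹) = g * facts.phi (m * k) * g⁻¹ := by rw [map_mul]; group
        _ = g * facts.phi (k * m) * g⁻¹ := by rw [hmk]
        _ = g * facts.phi k * g⁻¹ * (g * facts.phi m * g⁻¹) := by rw [map_mul]; group
  let X : Subgroup Fi24 := centralizer ({x} : Set Fi24)
  let d' : ↥X := ⟨d, mem_centralizer_singleton_iff.2 h⟩
  let M : Subgroup ↥X := centralizer ({d'} : Set ↥X)
  have mX : ∀ m : ↥(centralizer ({k} : Set Fi23)), g * facts.phi (m : Fi23) * g⁻¹ ∈ X := by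
    intro m
    rw [mem_centralizer_singleton_iff, ← hkx]
    calc g * facts.phi (m : Fi23) * g⁻¹ * (g * facts.phi k * g⁻¹) = g * facts.phi ((m : Fi23) * k) * g⁻¹ := by
          rw [map_mul]; group
      _ = g * facts.phi (k * (m : Fi23)) * g⁻¹ := by rw [mem_centralizer_singleton_iff.1 m.2]
      _ = g * facts.phi k * g⁻¹ * (g * facts.phi (m : Fi23) * g⁻¹) := by rw [map_mul]; group
  let f : ↥(centralizer ({k} : Set Fi23)) →* ↥M :=
    { toFun := fun m => ⟨⟨g * facts.phi (m : Fi23) * g⁻¹, mX m⟩, by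
        rw [mem_centralizer_singleton_iff]
        apply Subtype.ext
        change g * facts.phi (m : Fi23) * g⁻¹ * d = d * (g * facts.phi (m : Fi23) * g⁻¹)
        rw [← hg]
        calc g * facts.phi (m : Fi23) * g⁻¹ * (g * gen .l * g⁻¹) = g * (facts.phi (m : Fi23) * gen .l) * g⁻¹ := by group
          _ = g * (gen .l * facts.phi (m : Fi23)) * g⁻¹ := by
              rw [show facts.phi (m : Fi23) * gen .l = gen .l * facts.phi (m : Fi23) from facts.phi_comm _]
          _ = g * gen .l * g⁻¹ * (g * facts.phi (m : Fi23) * g⁻¹) := by group⟩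
      map_one' := by
        apply Subtype.ext; apply Subtype.ext
        change g * facts.phi 1 * g⁻¹ = 1
        rw [map_one]; group
      map_mul' := fun a b => by
        apply Subtype.ext; apply Subtype.ext
        change g * facts.phi ((a : Fi23) * b) * g⁻¹ = g * facts.phi (a : Fi23) * g⁻¹ * (g * facts.phi (b : Fi23) * g⁻¹)
        rw [map_mul]; group }
  let sg : ↥M →* ℤˣ := sgn.comp (X.subtype.comp M.subtype)
  have hker : sg.ker ≤ f.range := by
    intro y hy
    have hys : sgn ((y : ↥X) : Fi24) = 1 := hy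
    have hyd : ((y : ↥X) : Fi24) * d = d * ((y : ↥X) : Fi24) :=
      congrArg Subtype.val (mem_centralizer_singleton_iff.1 y.2)
    have hyx : ((y : ↥X) : Fi24) * x = x * ((y : ↥X) : Fi24) := mem_centralizer_singleton_iff.1 (y : ↥X).2
    set w : Fi24 := ((y : ↥X) : Fi24) with hw
    have h1 : (g⁻¹ * w * g) * gen .l = gen .l * (g⁻¹ * w * g) := by
      rw [hgl]
      calc g⁻¹ * w * g * (g⁻¹ * d * g) = g⁻¹ * (w * d) * g := by group
        _ = g⁻¹ * (d * w) * g := by rw [hyd]
        _ = g⁻¹ * d * g * (g⁻¹ * w * g) := by group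
    have h2 : sgn (g⁻¹ * w * g) = 1 := by
      rw [map_mul, map_mul, hys, mul_one, ← map_mul, inv_mul_cancel, map_one]
    obtain ⟨m, hm⟩ := (facts.mem_range_iff (g⁻¹ * w * g)).2 ⟨h1, h2⟩
    refine ⟨⟨m, ?_⟩, ?_⟩
    · rw [mem_centralizer_singleton_iff]
      apply facts.phi_injective
      rw [map_mul, map_mul, hm, hk]
      calc g⁻¹ * w * g * (g⁻¹ * x * g) = g⁻¹ * (w * x) * g := by group
        _ = g⁻¹ * (x * w) * g := by rw [hyx]
        _ = g⁻¹ * x * g * (g⁻¹ * w * g) := by group
    · apply Subtype.ext; apply Subtype.ext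
      change g * facts.phi m * g⁻¹ = w
      rw [hm]
      group
  exact Group.isSolvable_of_ker_le_range f sg hker

/-- **(B)** no component if `x` commutes with a transposition and with no element of order 5 -/
theorem noComp_of_not_five {x d : Fi24} (hx : orderOf x = 3) (hd : d ∈ L) (h : d * x = x * d)
    (h5 : ∀ y : Fi24, orderOf y = 5 → y * x ≠ x * y) : NoComp 3 ↥(centralizer ({x} : Set Fi24)) := by
  have hfin := Cfsg.Agent.R08.FiTwentyFour.finite_Fi24
  intro K hK
  have hO := Lib.Cores.pPrimeCore_normal (G := ↥(centralizer ({x} : Set Fi24))) 3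
  have hT := Cfsg.Agent.LThreeFi24.Red24.tset (centralizer ({x} : Set Fi24))
  by_cases hn : ∀ k ∈ K, ((⟨d, mem_centralizer_singleton_iff.2 h⟩ : ↥(centralizer ({x} : Set Fi24))) :
      ↥(centralizer ({x} : Set Fi24)) ⧸ pPrimeCore 3 ↥(centralizer ({x} : Set Fi24))) * k =
      k * ((⟨d, mem_centralizer_singleton_iff.2 h⟩ : ↥(centralizer ({x} : Set Fi24))) :
      ↥(centralizer ({x} : Set Fi24)) ⧸ pPrimeCore 3 ↥(centralizer ({x} : Set Fi24)))
  · obtain ⟨b, hb, hbx, hnc⟩ := Cfsg.Agent.LThreeFi24.Red24.exists_noncomm hx hd h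
    have h1 := Cfsg.Agent.LThreeFi24.CompB.le_of_triv hT
      (Lib.Cores.pPrimeCore_coprime (G := ↥(centralizer ({x} : Set Fi24))) 3) hK
      (d := ⟨d, mem_centralizer_singleton_iff.2 h⟩) (b := ⟨b, mem_centralizer_singleton_iff.2 hbx⟩) hd hb
      (fun h2 => hnc (congrArg Subtype.val h2)) (by
        intro t ht hi
        have h1 : (t : Fi24) * (d * b) * (t : Fi24)⁻¹ = (d * b)⁻¹ := congrArg Subtype.val hi
        rcases Cfsg.Agent.LThreeFi24.Base24.inv3 hd hb ht hnc h1 with h2 | h2 | h2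
        · exact Or.inl (Subtype.ext h2)
        · exact Or.inr (Or.inl (Subtype.ext h2))
        · exact Or.inr (Or.inr (Subtype.ext h2))) hn
    have hs := solvable_cd hx hd h h5
    have hs2 : Group.IsSolvable ↥((centralizer ({(⟨d, mem_centralizer_singleton_iff.2 h⟩ :
        ↥(centralizer ({x} : Set Fi24)))} : Set ↥(centralizer ({x} : Set Fi24)))).map
        (QuotientGroup.mk' (pPrimeCore 3 ↥(centralizer ({x} : Set Fi24))))) :=
      Group.isSolvable_of_surjective (f := (QuotientGroup.mk' _).subgroupMap _) ((QuotientGroup.mk' _).subgroupMap_surjective _)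
    exact Components.quasisimple_not_isSolvable hK.2
      (Group.isSolvable_of_isSolvable_injective (f := inclusion h1) (inclusion_injective h1))
  · have h2 : 5 ∣ Nat.card ↥K := Cfsg.Agent.LThreeFi24.FG.five_dvd hK (hT.map (QuotientGroup.mk' _)
      (QuotientGroup.mk'_surjective _)) ⟨⟨d, mem_centralizer_singleton_iff.2 h⟩, hd, rfl⟩ hn
    have h3 : 5 ∣ Nat.card ↥(centralizer ({x} : Set Fi24)) :=
      (h2.trans (card_subgroup_dvd_card K)).trans (card_quotient_dvd_card _)
    have : Fact (Nat.Prime 5) := ⟨by norm_num⟩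
    obtain ⟨y, hy⟩ := exists_prime_orderOf_dvd_card' 5 h3
    exact h5 y (by rw [← hy, Subgroup.orderOf_coe]) (mem_centralizer_singleton_iff.1 y.2)

/-! ### `Fi24'` -/

open Cfsg.Agent.LThreeFi24.SNine in
/-- the elements of order 3 commuting with an element of order 5 -/
theorem cases_of_five {x y : Fi24} (hx : orderOf x = 3) (hy : orderOf y = 5) (h : y * x = x * y) :
    ∃ t : Fi24, t * x * t⁻¹ = x1 ∨ t * x * t⁻¹ = x2 ∨ t * x * t⁻¹ = x3 := by
  obtain ⟨g, hg⟩ := Cfsg.Agent.LThreeFi24.FiveConj.exists_conj_five hy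
  have ho : orderOf (g * x * g⁻¹) = 3 := by rw [← hx]; exact MulEquiv.orderOf_eq (MulAut.conj g) x
  obtain ⟨t, ht⟩ := conj_three (x := g * x * g⁻¹) (mem_G0.2 (by
    rw [← hg]
    calc g * x * g⁻¹ * (g * y * g⁻¹) = g * (x * y) * g⁻¹ := by group
      _ = g * (y * x) * g⁻¹ := by rw [h]
      _ = g * y * g⁻¹ * (g * x * g⁻¹) := by group)) (by rw [← ho, pow_orderOf_eq_one]) (by
    intro h1
    rw [h1, orderOf_one] at ho
    omega)
  refine ⟨t * g, ?_⟩
  have h1 : t * g * x * (t * g)⁻¹ = t * (g * x * g⁻¹) * t⁻¹ := by group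
  rw [h1]
  exact ht

/-- from `C_{Fi24}(x)` to `C_{Fi24'}(x)` -/
theorem good_down {x : Fi24'} (h : Good 3 ↥(centralizer ({(x : Fi24)} : Set Fi24))) :
    Good 3 ↥(centralizer ({x} : Set Fi24')) := by
  have hfin := Cfsg.Agent.R08.FiTwentyFour.finite_Fi24
  have : Fact (Nat.Prime 3) := ⟨Nat.prime_three⟩
  let X : Subgroup Fi24 := centralizer ({(x : Fi24)} : Set Fi24)
  let N : Subgroup ↥X := (commutator Fi24).subgroupOf X
  have hN : N.Normal := (inferInstance : (commutator Fi24).Normal).subgroupOf X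
  have h1 : Good 3 ↥N := h.subnormal hN.isSubnormal
  let e : ↥N →* ↥(centralizer ({x} : Set Fi24')) :=
    { toFun := fun n => ⟨⟨((n : ↥X) : Fi24), n.2⟩, by
        rw [mem_centralizer_singleton_iff]
        apply Subtype.ext
        exact mem_centralizer_singleton_iff.1 (n : ↥X).2⟩
      map_one' := rfl
      map_mul' := fun a b => rfl }
  have he : Function.Bijective e := by
    constructor
    · intro a b hab
      have h2 : ((a : ↥X) : Fi24) = ((b : ↥X) : Fi24) :=
        congrArg (fun z : ↥(centralizer ({x} : Set Fi24')) => ((z : Fi24') : Fi24)) hab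
      exact Subtype.ext (Subtype.ext h2)
    · intro c
      refine ⟨⟨⟨((c : Fi24') : Fi24), ?_⟩, (c : Fi24').2⟩, rfl⟩
      rw [mem_centralizer_singleton_iff]
      exact congrArg Subtype.val (mem_centralizer_singleton_iff.1 c.2)
  exact h1.congr (MulEquiv.ofBijective e he)

open Cfsg.Agent.LThreeFi24.SNine in
/-- the class of `x1` -/
theorem core_of_x1 {x t : Fi24} (h : t * x * t⁻¹ = x1) : pPrimeCore 3 ↥(centralizer ({x} : Set Fi24)) = ⊥ := by
  have hfin := Cfsg.Agent.R08.FiTwentyFour.finite_Fi24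
  exact core_conj (isConj_iff.2 ⟨t, h⟩ : IsConj x x1).symm core_x1

/-- the elements of order 3 of `Fi24'` commuting with an element of order 5 -/
theorem good_of_five {x : Fi24'} (hx : orderOf x = 3) {y : Fi24} (hy : orderOf y = 5) (h : y * x = x * y) :
    Good 3 ↥(centralizer ({x} : Set Fi24')) := by
  have hxo : orderOf (x : Fi24) = 3 := by rw [Subgroup.orderOf_coe, hx]
  obtain ⟨t, ht | ht⟩ := cases_of_five hxo hy h
  · exact good_down (good_of_core (core_of_x1 ht))
  · exact NoComp.good (noComp x ⟨t, ht⟩)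

/-- **`Good 3 (C(x))` for the elements `x` of order 3 of `Fi24'` commuting with a transposition** -/
theorem good_of_nonempty {x : Fi24'} (hx : orderOf x = 3) {d : Fi24} (hd : d ∈ L) (h : d * x = x * d) :
    Good 3 ↥(centralizer ({x} : Set Fi24')) := by
  have hxo : orderOf (x : Fi24) = 3 := by rw [Subgroup.orderOf_coe, hx]
  by_cases h5 : ∃ y : Fi24, orderOf y = 5 ∧ y * x = x * y
  · obtain ⟨y, hy, hyx⟩ := h5
    exact good_of_five hx hy hyx
  · exact good_down (noComp_of_not_five hxo hd h fun y hy hyx => h5 ⟨y, hy, hyx⟩).good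

end Cfsg.Agent.LThreeFi24N

end
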